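import Cfsg.Agent.AH.Defs

set_option autoImplicit false

namespace Cfsg.Agent.AH

open Subgroup

universe u

variable {G H : Type*} [Group G] [Group H] [Finite G]

omit [Finite G] in
theorem basA_mem {x y : G} : y ∈ centralizer ({x} : Set G) ↔ y * x = x * y := by
  rw [mem_centralizer_iff]
  simp only [Set.mem_singleton_iff, forall_eq]
  exact eq_comm

theorem cc_pos (x : G) : 0 < cc x := Nat.card_pos

theorem cc_dvd (x : G) : cc x ∣ Nat.card G := card_subgroup_dvd_card _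

theorem dvd_cc {x y : G} (h : Commute x y) : orderOf y ∣ cc x :=
  Subgroup.orderOf_dvd_natCard _ (basA_mem.2 h.symm.eq)

theorem card_dvd_cc {x : G} {K : Subgroup G} (h : ∀ y ∈ K, y * x = x * y) : Nat.card K ∣ cc x :=
  card_dvd_of_le fun y hy => basA_mem.2 (h y hy)

theorem cc_conj {x y : G} (h : IsConj x y) : cc x = cc y := by
  obtain ⟨g, rfl⟩ := isConj_iff.1 h
  refine Nat.card_congr ⟨fun a => ⟨g * a * g⁻¹, basA_mem.2 ?_⟩, fun a => ⟨g⁻¹ * a * g, basA_mem.2 ?_⟩,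
    fun a => Subtype.ext (by simp [mul_assoc]), fun a => Subtype.ext (by simp [mul_assoc])⟩
  · have := basA_mem.1 a.2
    calc _ = g * (a * x) * g⁻¹ := by group
      _ = _ := by rw [this]; group
  · have := basA_mem.1 a.2
    calc _ = g⁻¹ * (a * (g * x * g⁻¹)) * g := by group
      _ = _ := by rw [this]; group

theorem cc_one : cc (1 : G) = Nat.card G := by
  have : centralizer ({1} : Set G) = ⊤ := eq_top_iff.2 fun g _ => basA_mem.2 (by simp)
  rw [cc, this, card_top]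

theorem cc_pow {x : G} {k : ℕ} (h : k.Coprime (orderOf x)) : cc (x ^ k) = cc x := by
  obtain ⟨m, hm⟩ := exists_pow_eq_self_of_coprime h
  have : centralizer ({x ^ k} : Set G) = centralizer ({x} : Set G) := by
    ext g
    rw [basA_mem, basA_mem]
    refine ⟨fun e => ?_, fun e => (Commute.pow_right e k).eq⟩
    rw [← hm]
    exact (Commute.pow_right e m).eq
  rw [cc, this, cc]

theorem basA_lift {n m k : ℕ} (hm : m ≠ 0) (h : n ∣ m) (hk : k.Coprime n) :
    ∃ k', k'.Coprime m ∧ k' ≡ k [MOD n] := by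
  haveI : NeZero m := ⟨hm⟩
  obtain ⟨u, hu⟩ := ZMod.unitsMap_surjective h (ZMod.unitOfCoprime k hk)
  refine ⟨(u : ZMod m).val, ZMod.val_coe_unit_coprime u, ?_⟩
  rw [← ZMod.natCast_eq_natCast_iff]
  have := congrArg Units.val hu
  rw [ZMod.unitsMap_val, ZMod.coe_unitOfCoprime] at this
  rw [ZMod.natCast_val]
  exact this

theorem RatG.of_surj (h : RatG G) (f : G →* H) (hf : Function.Surjective f) : RatG H := by
  intro y k hk
  obtain ⟨x, rfl⟩ := hf y
  obtain ⟨k', h1, h2⟩ := basA_lift (orderOf_pos x).ne' (orderOf_map_dvd f x) hk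
  have := f.map_isConj (h x k' h1)
  rwa [map_pow, pow_eq_pow_iff_modEq.2 h2] at this

theorem basA_inv (x : G) : (orderOf x - 1).Coprime (orderOf x) ∧ x ^ (orderOf x - 1) = x⁻¹ :=
  ⟨(Nat.coprime_self_sub_left (orderOf_pos x)).2 (Nat.coprime_one_left _), eq_inv_of_mul_eq_one_left (by
    rw [← pow_succ, Nat.sub_add_cancel (orderOf_pos x), pow_orderOf_eq_one])⟩

theorem RatG.inv (h : RatG G) (x : G) : IsConj x x⁻¹ :=
  (basA_inv x).2 ▸ h x _ (basA_inv x).1

theorem RatG.comm (h : RatG G) {a c : G} (hac : Commute a c) (hc : (orderOf a).Coprime (orderOf c))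
    {k : ℕ} (hk : k.Coprime (orderOf c)) : ∃ g : G, Commute g a ∧ g * c * g⁻¹ = c ^ k := by
  obtain ⟨k', h1, h2⟩ := Nat.chineseRemainder hc 1 k
  obtain ⟨m, h3, h4⟩ := Nat.chineseRemainder hc 1 0
  have hk' : k'.Coprime (orderOf (a * c)) := by
    rw [hac.orderOf_mul_eq_mul_orderOf_of_coprime hc]
    refine Nat.Coprime.mul_right ?_ ?_
    · rw [Nat.Coprime, h1.gcd_eq]; exact Nat.coprime_one_left _
    · rw [Nat.Coprime, h2.gcd_eq]; exact hk
  obtain ⟨g, hg⟩ := isConj_iff.1 (h _ _ hk')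
  rw [hac.mul_pow, pow_eq_pow_iff_modEq.2 h1, pow_eq_pow_iff_modEq.2 h2, pow_one] at hg
  have am : a ^ m = a := by rw [pow_eq_pow_iff_modEq.2 h3, pow_one]
  have cm : c ^ m = 1 := by rw [pow_eq_pow_iff_modEq.2 h4, pow_zero]
  have ga : g * a * g⁻¹ = a := by
    have := congrArg (· ^ m) hg
    simp only [conj_pow] at this
    rwa [hac.mul_pow, (hac.pow_right k).mul_pow, ← pow_mul, mul_comm k, pow_mul, am, cm, one_pow, mul_one] at this
  refine ⟨g, mul_inv_eq_iff_eq_mul.1 ga, mul_left_cancel (a := a) ?_⟩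
  rw [← hg]
  conv_lhs => rw [← ga]
  group

theorem RatG.comm_inv (h : RatG G) {a c : G} (hac : Commute a c)
    (hc : (orderOf a).Coprime (orderOf c)) : ∃ g : G, Commute g a ∧ g * c * g⁻¹ = c⁻¹ :=
  (basA_inv c).2 ▸ h.comm hac hc (basA_inv c).1

theorem RatG.ord (h : RatG G) (x : G) : Nat.totient (orderOf x) * cc x ∣ Nat.card G := by
  have hs : Function.Surjective (zpowers x).normalizerMonoidHom := fun σ => by
    obtain ⟨k, hk⟩ := (mem_powers_iff_mem_zpowers.2 (σ ⟨x, mem_zpowers x⟩).2 : ∃ k : ℕ, x ^ k = _)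
    obtain ⟨m, hm⟩ := (mem_powers_iff_mem_zpowers.2 (σ.symm ⟨x, mem_zpowers x⟩).2 : ∃ k : ℕ, x ^ k = _)
    have e1 : σ ⟨x, mem_zpowers x⟩ = ⟨x, mem_zpowers x⟩ ^ k := Subtype.ext hk.symm
    have e2 : σ.symm ⟨x, mem_zpowers x⟩ = ⟨x, mem_zpowers x⟩ ^ m := Subtype.ext hm.symm
    have e3 : x ^ (k * m) = x ^ 1 := by
      have := σ.apply_symm_apply ⟨x, mem_zpowers x⟩
      rw [e2, map_pow, e1, ← pow_mul] at this
      rw [pow_one]
      exact congrArg Subtype.val this
    have hc : k.Coprime (orderOf x) := Nat.coprime_of_mul_modEq_one m (pow_eq_pow_iff_modEq.1 e3)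
    obtain ⟨g, hg⟩ := isConj_iff.1 (h x k hc)
    have gN : g ∈ normalizer (zpowers x : Set G) := mem_normalizer_fintype (by
      rintro _ ⟨n, rfl⟩
      show g * x ^ n * g⁻¹ ∈ zpowers x
      rw [← conj_zpow, hg]
      exact zpow_mem (pow_mem (mem_zpowers x) k) n)
    refine ⟨⟨g, gN⟩, MulEquiv.ext ?_⟩
    rintro ⟨_, n, rfl⟩
    have e4 : (⟨x ^ n, n, rfl⟩ : zpowers x) = ⟨x, mem_zpowers x⟩ ^ n := rfl
    show _ = σ ⟨x ^ n, n, rfl⟩
    rw [e4, map_zpow σ, e1]
    refine Subtype.ext ?_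
    show g * x ^ n * g⁻¹ = (x ^ k) ^ n
    rw [← conj_zpow, hg]
  have h1 := (zpowers x).normalizerMonoidHom.ker.card_mul_index
  have hc : centralizer (zpowers x : Set G) = centralizer ({x} : Set G) := by
    rw [zpowers_eq_closure, centralizer_closure]
  rw [index_ker, MonoidHom.range_eq_top.2 hs, card_top, IsCyclic.card_mulAut, Nat.card_zpowers,
    normalizerMonoidHom_ker, Nat.card_congr (subgroupOfEquivOfLe (centralizer_le_normalizer _)).toEquiv, hc] at h1
  rw [mul_comm, cc, h1]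
  exact card_subgroup_dvd_card _

theorem RatG.eight (h : RatG G) {x : G} (h4 : 4 ∣ orderOf x) : 8 ∣ Nat.card G := by
  refine Dvd.dvd.trans ?_ (h.ord x)
  have h1 : 2 ∣ Nat.totient (orderOf x) :=
    (Nat.totient_even (lt_of_lt_of_le (by norm_num) (Nat.le_of_dvd (orderOf_pos x) h4))).two_dvd
  exact Nat.mul_dvd_mul h1 (h4.trans (dvd_cc (Commute.refl x)))

end Cfsg.Agent.AH
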