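import Cfsg.Agent.AH.BasA

set_option autoImplicit false

namespace Cfsg.Agent.AH

open Subgroup

universe u

theorem BasC_rep {G W : Type*} [Group G] {p : ℕ} [Fact p.Prime] [AddCommGroup W]
    [Module (ZMod p) W] {φ : W → G} (hi : Function.Injective φ)
    (ha : ∀ w w', φ (w + w') = φ w * φ w') (hc : ∀ g w, ∃ w', φ w' = g * φ w * g⁻¹) :
    ∃ ρ : G →* (W ≃ₗ[ZMod p] W), ∀ g w, φ (ρ g w) = g * φ w * g⁻¹ := by
  choose c hc using hc
  have h1 : ∀ g w w', c g (w + w') = c g w + c g w' := fun g w w' => hi (by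
    rw [hc, ha, ha, hc, hc]
    group)
  have h2 : ∀ g g' w, c (g * g') w = c g (c g' w) := fun g g' w => hi (by
    rw [hc, hc, hc]
    group)
  have h3 : ∀ w, c 1 w = w := fun w => hi (by
    rw [hc]
    group)
  let l : G → (W ≃ₗ[ZMod p] W) := fun g =>
    { toFun := c g
      invFun := c g⁻¹
      map_add' := h1 g
      map_smul' := fun a w => ZMod.map_smul (AddMonoidHom.mk' (c g) (h1 g)) a w
      left_inv := fun w => by rw [← h2, inv_mul_cancel, h3]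
      right_inv := fun w => by rw [← h2, mul_inv_cancel, h3] }
  exact ⟨MonoidHom.mk' l fun a b => LinearEquiv.ext fun w => h2 a b w, hc⟩

theorem exists_rep {G : Type u} [Group G] (V : Subgroup G) (hV : V.Normal) (p : ℕ) [Fact p.Prime]
    (hc : ∀ x ∈ V, ∀ y ∈ V, x * y = y * x) (he : ∀ x ∈ V, x ^ p = 1) :
    ∃ (W : Type u) (_ : AddCommGroup W) (_ : Module (ZMod p) W) (φ : W → G)
      (ρ : G →* (W ≃ₗ[ZMod p] W)), Rp V φ ρ := by
  letI : CommGroup V := { (inferInstance : Group V) with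
    mul_comm := fun a b => Subtype.ext (hc a a.2 b b.2) }
  have hp : ∀ x : Additive V, p • x = 0 := fun x => by
    apply Additive.toMul.injective
    rw [toMul_nsmul, toMul_zero]
    exact Subtype.ext (he _ (Additive.toMul x).2)
  letI : Module (ZMod p) (Additive V) := AddCommGroup.zmodModule hp
  have hi : Function.Injective fun x : Additive V => ((Additive.toMul x : V) : G) :=
    fun a b h => Additive.toMul.injective (Subtype.ext h)
  obtain ⟨ρ, hρ⟩ := BasC_rep (p := p) hi (fun _ _ => rfl) fun g w =>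
    ⟨Additive.ofMul ⟨_, hV.conj_mem _ (Additive.toMul w).2 g⟩, rfl⟩
  exact ⟨Additive V, inferInstance, inferInstance, fun x => ((Additive.toMul x : V) : G), ρ, hi,
    fun g => ⟨fun h => ⟨Additive.ofMul ⟨g, h⟩, rfl⟩, fun ⟨w, h⟩ => h ▸ (Additive.toMul w).2⟩,
    fun _ _ => rfl, hρ⟩

variable {G W : Type*} [Group G] {V : Subgroup G} {p : ℕ} [Fact p.Prime] [AddCommGroup W]
  [Module (ZMod p) W] {φ : W → G} {ρ : G →* (W ≃ₗ[ZMod p] W)}

theorem Rp.zero (h : Rp V φ ρ) : φ 0 = 1 := by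
  have h1 := h.add 0 0
  rw [add_zero] at h1
  exact left_eq_mul.1 h1

theorem Rp.eq_one (h : Rp V φ ρ) {w : W} : φ w = 1 ↔ w = 0 :=
  ⟨fun e => h.inj (e.trans h.zero.symm), fun e => e ▸ h.zero⟩

theorem Rp.neg (h : Rp V φ ρ) (w : W) : φ (-w) = (φ w)⁻¹ :=
  eq_inv_of_mul_eq_one_left (by rw [← h.add, neg_add_cancel, h.zero])

theorem Rp.smul (h : Rp V φ ρ) (k : ℕ) (w : W) : φ ((k : ZMod p) • w) = φ w ^ k := by
  induction k with
  | zero => rw [Nat.cast_zero, zero_smul, pow_zero, h.zero]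
  | succ k ih => rw [Nat.cast_succ, add_smul, one_smul, h.add, ih, pow_succ]

theorem Rp.fix (h : Rp V φ ρ) (g : G) (w : W) : ρ g w = w ↔ g * φ w = φ w * g := by
  rw [← h.inj.eq_iff, h.conj, mul_inv_eq_iff_eq_mul]

theorem Rp.finite [Finite G] (h : Rp V φ ρ) : Finite W := Finite.of_injective φ h.inj

theorem Rp.card (h : Rp V φ ρ) : Nat.card W = Nat.card V :=
  Nat.card_eq_of_bijective (fun w => (⟨φ w, (h.mem _).2 ⟨w, rfl⟩⟩ : V))
    ⟨fun _ _ e => h.inj (congrArg Subtype.val e), fun v => by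
      obtain ⟨w, hw⟩ := (h.mem v).1 v.2
      exact ⟨w, Subtype.ext hw⟩⟩

theorem Rp.nontrivial (h : Rp V φ ρ) (h0 : V ≠ ⊥) : Nontrivial W := by
  obtain ⟨⟨v, hv⟩, h1⟩ := (ne_bot_iff_exists_ne_one).1 h0
  obtain ⟨w, rfl⟩ := (h.mem v).1 hv
  exact ⟨w, 0, fun e => h1 (Subtype.ext (h.eq_one.2 e))⟩

theorem Rp.ker (h : Rp V φ ρ) (g : G) : ρ g = 1 ↔ ∀ v ∈ V, g * v = v * g := by
  refine ⟨fun e v hv => ?_, fun e => LinearEquiv.ext fun w => ?_⟩
  · obtain ⟨w, rfl⟩ := (h.mem v).1 hv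
    exact (h.fix g w).1 (by rw [e]; rfl)
  · exact (h.fix g w).2 (e _ ((h.mem _).2 ⟨w, rfl⟩))

theorem Rp.le_ker (h : Rp V φ ρ) : V ≤ ρ.ker := fun g hg => (h.ker g).2 fun v hv => by
  obtain ⟨w, rfl⟩ := (h.mem v).1 hv
  obtain ⟨w', rfl⟩ := (h.mem g).1 hg
  rw [← h.add, ← h.add, add_comm]

theorem Rp.irr (h : Rp V φ ρ) (hm : ∀ L : Subgroup G, L.Normal → L ≤ V → L = ⊥ ∨ L = V) :
    Irr ρ.range := by
  intro U hU
  let L : Subgroup G :=
    { carrier := φ '' U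
      one_mem' := ⟨0, U.zero_mem, h.zero⟩
      mul_mem' := by
        rintro _ _ ⟨a, ha, rfl⟩ ⟨b, hb, rfl⟩
        exact ⟨a + b, U.add_mem ha hb, h.add a b⟩
      inv_mem' := by
        rintro _ ⟨a, ha, rfl⟩
        exact ⟨-a, U.neg_mem ha, h.neg a⟩ }
  have hL : L.Normal := ⟨by
    rintro _ ⟨a, ha, rfl⟩ g
    exact ⟨ρ g a, hU _ ⟨g, rfl⟩ a ha, h.conj g a⟩⟩
  refine (hm L hL ?_).imp (fun e => eq_bot_iff.2 fun w hw => ?_) fun e => eq_top_iff.2 fun w _ => ?_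
  · rintro _ ⟨a, -, rfl⟩
    exact (h.mem _).2 ⟨a, rfl⟩
  · exact h.eq_one.1 (mem_bot.1 (e.le ⟨w, hw, rfl⟩))
  · obtain ⟨a, ha, e'⟩ := e.ge ((h.mem _).2 ⟨w, rfl⟩)
    exact h.inj e' ▸ ha

/-- eigenvector property from power-conjugacy -/
theorem Rp.ep' (h : Rp V φ ρ) (k : ℕ) (hk : ∀ v ∈ V, ∃ g : G, g * v * g⁻¹ = v ^ k) :
    EP ρ.range (k : ZMod p) := fun w => by
  obtain ⟨g, hg⟩ := hk _ ((h.mem _).2 ⟨w, rfl⟩)
  exact ⟨ρ g, ⟨g, rfl⟩, h.inj (by rw [h.conj, hg, h.smul])⟩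

theorem Rp.ep (h : Rp V φ ρ) (hR : RatG G) {ζ : ZMod p} (hζ : ζ ≠ 0) : EP ρ.range ζ := by
  have hp : p.Prime := Fact.out
  have : NeZero p := ⟨hp.ne_zero⟩
  rw [← ZMod.natCast_zmod_val ζ]
  refine h.ep' _ fun v hv => isConj_iff.1 (hR v _ ?_)
  obtain ⟨w, rfl⟩ := (h.mem v).1 hv
  have h1 : orderOf (φ w) ∣ p :=
    orderOf_dvd_of_pow_eq_one (by rw [← h.smul, ZMod.natCast_self, zero_smul, h.zero])
  refine Nat.Coprime.coprime_dvd_right h1 ((Nat.coprime_comm.1 ((hp.coprime_iff_not_dvd).2 ?_)))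
  intro h2
  exact hζ (by rw [← ZMod.natCast_zmod_val ζ]; exact (ZMod.natCast_eq_zero_iff _ _).2 h2)

/-- an eigenvalue `2` in characteristic 5 forces order divisible by 4 -/
theorem four_dvd {W : Type*} [AddCommGroup W] [Module (ZMod 5) W] {x : W ≃ₗ[ZMod 5] W} {w : W}
    (hw : w ≠ 0) (hx : x w = (2 : ZMod 5) • w) : 4 ∣ orderOf x := by
  have h1 : ∀ n : ℕ, (x ^ n) w = (2 : ZMod 5) ^ n • w := fun n => by
    induction n with
    | zero => rw [pow_zero, pow_zero, one_smul]; rfl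
    | succ n ih => rw [pow_succ', LinearEquiv.mul_apply, ih, map_smul, hx, smul_smul, ← pow_succ]
  have h2 := h1 (orderOf x)
  rw [pow_orderOf_eq_one] at h2
  have h3 : (2 : ZMod 5) ^ orderOf x = 1 := by
    have h4 : ((2 : ZMod 5) ^ orderOf x - 1) • w = 0 := by
      rw [sub_smul, one_smul, ← h2]
      exact sub_self w
    exact sub_eq_zero.1 ((smul_eq_zero.1 h4).resolve_right hw)
  have h5 : orderOf (2 : ZMod 5) = 2 ^ (1 + 1) :=
    orderOf_eq_prime_pow (by decide) (by decide)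
  have h6 := orderOf_dvd_of_pow_eq_one h3
  rwa [h5] at h6

end Cfsg.Agent.AH
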