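import Mathlib

/-! Definitions for project AH (solvable groups with distinct class sizes), see notes/AH.md. -/

set_option autoImplicit false

namespace Cfsg.Agent.AH

open Subgroup

instance fact5 : Fact (Nat.Prime 5) := ⟨Nat.prime_five⟩
instance fact7 : Fact (Nat.Prime 7) := ⟨Nat.prime_seven⟩

/-- rational group: generators of the same cyclic subgroup are conjugate -/
def RatG (G : Type*) [Group G] : Prop :=
  ∀ (x : G) (k : ℕ), k.Coprime (orderOf x) → IsConj x (x ^ k)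

/-- only the primes 2, 3, 5 divide `n` -/
def Sm (n : ℕ) : Prop := ∀ q : ℕ, q.Prime → q ∣ n → q ≤ 5

/-- order of the centralizer of an element -/
noncomputable def cc {G : Type*} [Group G] (x : G) : ℕ := Nat.card (centralizer ({x} : Set G))

/-- elements with centralizers of the same order are conjugate -/
def AHyp (G : Type*) [Group G] : Prop := ∀ x y : G, cc x = cc y → IsConj x y

/-- elementary abelian minimal normal subgroup of exponent `q` -/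
structure MN {G : Type*} [Group G] (V : Subgroup G) (q : ℕ) : Prop where
  nm : V.Normal
  ne : V ≠ ⊥
  comm : ∀ x ∈ V, ∀ y ∈ V, x * y = y * x
  exp : ∀ x ∈ V, x ^ q = 1
  min : ∀ L : Subgroup G, L.Normal → L ≤ V → L = ⊥ ∨ L = V

/-- `E` is a self-centralizing (modulo `z`) normal subgroup of `Γ` of extraspecial type -/
structure XE {A : Type*} [Group A] (z : A) (Γ E : Subgroup A) : Prop where
  le : E ≤ Γ
  nm : ∀ g ∈ Γ, ∀ e ∈ E, g * e * g⁻¹ ∈ E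
  neg : z ∈ E
  ex : ∃ e ∈ E, e ≠ 1 ∧ e ≠ z
  comm : ∀ e ∈ E, ∀ f ∈ E, e * f = f * e ∨ e * f = z * (f * e)
  sq : ∀ e ∈ E, e * e = 1 ∨ e * e = z
  cen : ∀ g ∈ Γ, (∀ e ∈ E, g * e = e * g) → g = 1 ∨ g = z

/-- `e` is one of `±1, ±i, ±j, ±ij` -/
def Q8m {A : Type*} [Group A] (z i j e : A) : Prop :=
  e = 1 ∨ e = z ∨ e = i ∨ e = z * i ∨ e = j ∨ e = z * j ∨ e = i * j ∨ e = z * (i * j)

/-- linear model `W` of a subgroup `V` with the conjugation action -/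
structure Rp {G : Type*} [Group G] (V : Subgroup G) {F W : Type*} [CommRing F] [AddCommGroup W]
    [Module F W] (φ : W → G) (ρ : G →* (W ≃ₗ[F] W)) : Prop where
  inj : Function.Injective φ
  mem : ∀ g, g ∈ V ↔ ∃ w, φ w = g
  add : ∀ w w', φ (w + w') = φ w * φ w'
  conj : ∀ g w, φ (ρ g w) = g * φ w * g⁻¹

/-- `SL(2,7)` -/
abbrev M7 : Type := Matrix.SpecialLinearGroup (Fin 2) (ZMod 7)

section lin
variable {F V : Type*} [CommRing F] [AddCommGroup V] [Module F V]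

instance finiteGL [Finite V] : Finite (V ≃ₗ[F] V) := DFunLike.finite _

/-- the map `-1` -/
def ng : V ≃ₗ[F] V := LinearEquiv.neg F

@[simp] theorem ng_apply (v : V) : (ng : V ≃ₗ[F] V) v = -v := rfl

theorem ng_mul_ng : (ng : V ≃ₗ[F] V) * ng = 1 := LinearEquiv.ext fun v => neg_neg v

theorem ng_comm (x : V ≃ₗ[F] V) : x * ng = ng * x := LinearEquiv.ext fun v => map_neg x v

theorem ng_inv : (ng : V ≃ₗ[F] V)⁻¹ = ng := inv_eq_of_mul_eq_one_right ng_mul_ng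

/-- nondegenerate alternating form preserved by `Γ` -/
structure Sp (b : V →ₗ[F] V →ₗ[F] F) (Γ : Subgroup (V ≃ₗ[F] V)) : Prop where
  alt : ∀ v, b v v = 0
  nd : ∀ v, (∀ w, b v w = 0) → v = 0
  inv : ∀ x ∈ Γ, ∀ v w, b (x v) (x w) = b v w

/-- nondegenerate subspace -/
def Nd (b : V →ₗ[F] V →ₗ[F] F) (U : Submodule F V) : Prop :=
  ∀ v ∈ U, (∀ w ∈ U, b v w = 0) → v = 0

/-- block of orthogonal imprimitivity -/
def Blk (b : V →ₗ[F] V →ₗ[F] F) (Γ : Subgroup (V ≃ₗ[F] V)) (U : Submodule F V) : Prop :=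
  ∀ x ∈ Γ, (∀ v ∈ U, x v ∈ U) ∨ ∀ v ∈ U, ∀ w ∈ U, b (x v) w = 0

/-- eigenvector property: every vector is a `ζ`-eigenvector of an element of `Γ` -/
def EP (Γ : Subgroup (V ≃ₗ[F] V)) (ζ : F) : Prop := ∀ v, ∃ x ∈ Γ, x v = ζ • v

/-- no proper invariant subspace -/
def Irr (Γ : Subgroup (V ≃ₗ[F] V)) : Prop :=
  ∀ U : Submodule F V, (∀ x ∈ Γ, ∀ v ∈ U, x v ∈ U) → U = ⊥ ∨ U = ⊤

/-- fixed space -/
def Fix (L : Subgroup (V ≃ₗ[F] V)) : Submodule F V where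
  carrier := {v | ∀ x ∈ L, x v = v}
  add_mem' ha hb x hx := by rw [map_add, ha x hx, hb x hx]
  zero_mem' x _ := map_zero x
  smul_mem' c v hv x hx := by rw [map_smul, hv x hx]

theorem mem_Fix {L : Subgroup (V ≃ₗ[F] V)} {v : V} : v ∈ Fix L ↔ ∀ x ∈ L, x v = v := Iff.rfl

/-- stabilizer of a subspace -/
def Stab (Γ : Subgroup (V ≃ₗ[F] V)) (U : Submodule F V) : Subgroup (V ≃ₗ[F] V) where
  carrier := {x | x ∈ Γ ∧ ∀ v, x v ∈ U ↔ v ∈ U}
  mul_mem' := fun {a b} ha hb => ⟨Γ.mul_mem ha.1 hb.1, fun v => (ha.2 (b v)).trans (hb.2 v)⟩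
  one_mem' := ⟨Γ.one_mem, fun _ => Iff.rfl⟩
  inv_mem' := fun {a} ha => ⟨Γ.inv_mem ha.1, fun v => by
    rw [← ha.2 (a⁻¹ v)]
    exact Iff.of_eq (congrArg (· ∈ U) (a.apply_symm_apply v))⟩

theorem Stab_le {Γ : Subgroup (V ≃ₗ[F] V)} {U : Submodule F V} : Stab Γ U ≤ Γ := fun _ h => h.1

theorem mem_Stab [Finite V] {Γ : Subgroup (V ≃ₗ[F] V)} {U : Submodule F V} {x : V ≃ₗ[F] V} :
    x ∈ Stab Γ U ↔ x ∈ Γ ∧ ∀ v ∈ U, x v ∈ U := by
  refine ⟨fun h => ⟨h.1, fun v hv => (h.2 v).2 hv⟩, fun h => ⟨h.1, fun v => ⟨fun hv => ?_, h.2 v⟩⟩⟩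
  have h1 : Function.Injective (fun u : U => (⟨x u, h.2 u u.2⟩ : U)) := fun a b e =>
    Subtype.ext (x.injective (congrArg Subtype.val e))
  obtain ⟨u, hu⟩ := Finite.surjective_of_injective h1 ⟨x v, hv⟩
  rw [← x.injective (congrArg Subtype.val hu)]
  exact u.2

/-- `A ≤ E` is the stabilizer in `E` of every nonzero vector it fixes, and it fixes one -/
structure MX (E A : Subgroup (V ≃ₗ[F] V)) : Prop where
  le : A ≤ E
  ne : Fix A ≠ ⊥
  max : ∀ u ∈ Fix A, u ≠ 0 → ∀ e ∈ E, e u = u → e ∈ A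

end lin

end Cfsg.Agent.AH
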